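import Groth.Prelude.Def_ChGrp
import Groth.Prelude.Def_AGF
import Mathlib

/-! The core of `H` in `G`: the kernel of the action of `G` on `G/H`. -/

set_option autoImplicit false
universe u
open CategoryTheory CategoryTheory.Limits MonoidalCategory CartesianMonoidalCategory MonObj AlgebraicGeometry

namespace Groth.Agent.AlgCoreLib

variable {S : Scheme.{u}} {G H Q N : Over S} [GrpObj G] [GrpObj H] [GrpObj N]

/-- Equality of two points can be tested after lifting a given point of `Q` along `p`. -/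
def SepCover (p : G ⟶ Q) : Prop :=
  ∀ (T : Over S) (u v x : T ⟶ Q),
    (∀ (T' : Over S) (s : T' ⟶ T) (g : T' ⟶ G), g ≫ p = s ≫ x → s ≫ u = s ≫ v) → u = v

theorem sepCover_of_flat (p : G ⟶ Q) [Flat p.left] [Surjective p.left] : SepCover p := by
  intro T u v x h
  let P : Over S := Over.mk (pullback.fst x.left p.left ≫ T.hom)
  let s : P ⟶ T := Over.homMk (pullback.fst x.left p.left)
  let g : P ⟶ G := Over.homMk (pullback.snd x.left p.left) (by
    show pullback.snd x.left p.left ≫ G.hom = pullback.fst x.left p.left ≫ T.hom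
    rw [← Over.w p, ← Over.w x]
    simp only [← Category.assoc, pullback.condition])
  have hg : g ≫ p = s ≫ x := Over.OverMorphism.ext (by
    show pullback.snd x.left p.left ≫ p.left = pullback.fst x.left p.left ≫ x.left
    exact pullback.condition.symm)
  have e := congrArg Over.Hom.left (h P s g hg)
  change pullback.fst x.left p.left ≫ u.left = pullback.fst x.left p.left ≫ v.left at e
  have : Epi (pullback.fst x.left p.left) := Flat.epi_of_flat_of_surjective _
  exact Over.OverMorphism.ext ((cancel_epi (pullback.fst x.left p.left)).mp e)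

theorem sepCover_of_fppf (p : G ⟶ Q)
    (hp : NonAbH1.IsLocallyTrivialFor Scheme.fppfPrecoverage (Over.mk p.left : Over Q.left)) : SepCover p := by
  obtain ⟨R, hR, hsec⟩ := hp
  intro T u v x h
  apply Over.OverMorphism.ext
  have hmem := Scheme.fppfTopology.pullback_stable x.left (Precoverage.generate_mem_toGrothendieck hR)
  refine ((GrothendieckTopology.Subcanonical.isSheaf_of_isRepresentable (J := Scheme.fppfTopology)
    (yoneda.obj Q.left)) _ hmem).isSeparatedFor.ext ?_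
  rintro W w ⟨U, a, f, hf, e⟩
  obtain ⟨σ, hσ⟩ := hsec f hf
  let s : Over.mk (w ≫ T.hom) ⟶ T := Over.homMk w
  change σ ≫ p.left = f at hσ
  let g : Over.mk (w ≫ T.hom) ⟶ G := Over.homMk (a ≫ σ) (by
    show (a ≫ σ) ≫ G.hom = w ≫ T.hom
    rw [← Over.w p, ← Over.w x, Category.assoc, reassoc_of% hσ, ← Category.assoc, e, Category.assoc])
  have hg : g ≫ p = s ≫ x := Over.OverMorphism.ext (by
    show (a ≫ σ) ≫ p.left = w ≫ x.left
    rw [Category.assoc, hσ, e])
  exact congrArg Over.Hom.left (h _ s g hg)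

theorem core_normal (i : H ⟶ G) [IsMonHom i] (a : AlgGrp.Action G Q) (o : 𝟙_ (Over S) ⟶ Q)
    (hpb : IsPullback (fst G H) ((G ◁ i) ≫ μ[G]) (a.orbitMap o) (a.orbitMap o))
    (hsep : SepCover (a.orbitMap o)) (n : N ⟶ G) [IsMonHom n]
    (hN : ∀ (T : Over S) (g : T ⟶ G),
      (∃ m : T ⟶ N, m ≫ n = g) ↔
        ∀ (T' : Over S) (s : T' ⟶ T) (x : T' ⟶ Q), lift (s ≫ g) x ≫ a.act = x) :
    AlgGrp.IsNormalHom n ∧ (∃ f : N ⟶ H, f ≫ i = n) ∧
      ∀ (N' : Over S) [GrpObj N'] (n' : N' ⟶ G) [IsMonHom n'],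
        AlgGrp.IsNormalHom n' → (∃ f : N' ⟶ H, f ≫ i = n') → ∃ f' : N' ⟶ N, f' ≫ n = n' := by
  have horb : ∀ (T : Over S) (g : T ⟶ G), g ≫ a.orbitMap o = lift g (toUnit T ≫ o) ≫ a.act :=
    fun T g => a.comp_orbitMap g o
  have hHfix : ∀ (T : Over S) (h : T ⟶ H) (g : T ⟶ G),
      (g * (h ≫ i)) ≫ a.orbitMap o = g ≫ a.orbitMap o := by
    intro T h g
    have w := congrArg (fun z => lift g h ≫ z) hpb.w
    simp only [← Category.assoc, lift_fst, lift_whiskerLeft] at w
    exact w.symm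
  refine ⟨?_, ?_, ?_⟩
  · intro T g m
    obtain ⟨m', hm'⟩ := (hN T (g * (m ≫ n) * g⁻¹)).mpr (fun T' s x => by
      rw [MonObj.comp_mul, MonObj.comp_mul, a.lift_mul_act, a.lift_mul_act]
      have hfix := (hN T' (s ≫ m ≫ n)).mp ⟨s ≫ m, Category.assoc _ _ _⟩ T' (𝟙 _)
      simp only [Category.id_comp] at hfix
      rw [hfix]
      rw [← a.lift_mul_act, ← MonObj.comp_mul, mul_inv_cancel, MonObj.comp_one, a.lift_one_act])
    exact ⟨m', hm'.symm⟩
  · have h1 : (1 : N ⟶ G) ≫ a.orbitMap o = n ≫ a.orbitMap o := by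
      rw [horb, horb, a.lift_one_act]
      have := (hN N n).mp ⟨𝟙 _, Category.id_comp _⟩ N (𝟙 _) (toUnit N ≫ o)
      rw [Category.id_comp] at this
      exact this.symm
    obtain ⟨l, hl1, hl2⟩ := hpb.exists_lift (1 : N ⟶ G) n h1
    refine ⟨l ≫ snd G H, ?_⟩
    rw [← lift_comp_fst_snd l, hl1] at hl2
    simp only [← Category.assoc, lift_whiskerLeft] at hl2
    change (1 : N ⟶ G) * ((l ≫ snd G H) ≫ i) = n at hl2
    rwa [_root_.one_mul] at hl2
  · rintro N' _ n' _ hn' ⟨f, rfl⟩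
    refine (hN N' _).mpr (fun T' s x => hsep T' _ _ x (fun T'' r g hg => ?_))
    obtain ⟨m, hm⟩ := hn' T'' g⁻¹ (r ≫ s)
    rw [inv_inv] at hm
    have e1 : (r ≫ s ≫ f ≫ i) * g = g * ((m ≫ f) ≫ i) := by
      rw [Category.assoc m, ← hm]
      simp only [Category.assoc]
      group
    rw [comp_lift_assoc, ← hg, horb, ← a.lift_mul_act, e1, ← horb, hHfix, horb]

end Groth.Agent.AlgCoreLib
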